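import Mathlib
import Groth.Agent.NormSect.Basic

/-!
Going down for finite surjective morphisms onto normal integral schemes.
-/

set_option autoImplicit false

universe u

open CategoryTheory CategoryTheory.Limits TopologicalSpace AlgebraicGeometry

namespace Groth.Agent.GoingDownNormal

variable {X Y : Scheme.{u}}

theorem generalizingMap_of_isFinite [IsIntegral X] [IsIntegral Y] (f : X ⟶ Y) [IsFinite f] [Surjective f]
    (hY : ∀ y : Y, IsIntegrallyClosed (Y.presheaf.stalk y)) : GeneralizingMap f.base := by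
  intro x η hη
  obtain ⟨U, hU, hxU, -⟩ := exists_isAffineOpen_mem_and_subset (show f x ∈ (⊤ : Y.Opens) from trivial)
  haveI : Nonempty U := ⟨⟨f x, hxU⟩⟩
  have hV : IsAffineOpen (f ⁻¹ᵁ U) := hU.preimage f
  haveI : Nonempty (f ⁻¹ᵁ U : X.Opens) := ⟨⟨x, hxU⟩⟩
  haveI : IsIntegrallyClosed Γ(Y, U) :=
    NormSect.isIntegrallyClosed_sections U fun y _ => hY y
  let φ : Γ(Y, U) →+* Γ(X, f ⁻¹ᵁ U) := (f.app U).hom
  have hinj : Function.Injective φ := by
    rw [injective_iff_map_eq_zero]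
    intro r hr
    rw [← basicOpen_eq_bot_iff (X := Y)]
    have h0 : f ⁻¹ᵁ (Y.basicOpen r) = ⊥ := by
      rw [Scheme.preimage_basicOpen]
      exact (basicOpen_eq_bot_iff _).mpr hr
    refine Opens.ext (Set.eq_empty_iff_forall_notMem.mpr fun y hy => ?_)
    obtain ⟨z, rfl⟩ := f.surjective y
    exact (show z ∉ f ⁻¹ᵁ (Y.basicOpen r) by rw [h0]; exact id) hy
  letI := φ.toAlgebra
  haveI : Module.Finite Γ(Y, U) Γ(X, f ⁻¹ᵁ U) := f.finite_app U hU
  haveI : Algebra.IsIntegral Γ(Y, U) Γ(X, f ⁻¹ᵁ U) := Algebra.IsIntegral.of_finite _ _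
  haveI : FaithfulSMul Γ(Y, U) Γ(X, f ⁻¹ᵁ U) := (faithfulSMul_iff_algebraMap_injective _ _).mpr hinj
  have hgd : GeneralizingMap (PrimeSpectrum.comap (algebraMap Γ(Y, U) Γ(X, f ⁻¹ᵁ U))) :=
    Algebra.HasGoingDown.iff_generalizingMap_primeSpectrumComap.mp inferInstance
  have hcomm : ∀ p, f (hV.fromSpec p) = hU.fromSpec (Spec.map (f.app U) p) := by
    intro p
    rw [← Scheme.Hom.comp_apply, ← Scheme.Hom.comp_apply]
    have := hU.SpecMap_appLE_fromSpec f hV le_rfl
    rw [← Scheme.Hom.app_eq_appLE] at this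
    rw [this]
  obtain ⟨p, hp⟩ : x ∈ Set.range hV.fromSpec := by rw [hV.range_fromSpec]; exact hxU
  obtain ⟨q, hq⟩ : η ∈ Set.range hU.fromSpec := by
    rw [hU.range_fromSpec]; exact hη.mem_open U.isOpen hxU
  have hqs : q ⤳ Spec.map (f.app U) p := by
    rw [← hU.fromSpec.isOpenEmbedding.isInducing.specializes_iff, hq, ← hcomm, hp]
    exact hη
  obtain ⟨p', hp', hp'q⟩ := hgd hqs
  refine ⟨hV.fromSpec p', ?_, ?_⟩
  · rw [← hp]
    exact Specializes.map hp' hV.fromSpec.continuous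
  · rw [hcomm, ← hq]
    exact congrArg _ hp'q

end Groth.Agent.GoingDownNormal
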